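/-
Project NP4 (S4131), job L2E: the groups `PSL₂(q)` and `Sz(q)`.
-/
import Cfsg.Agent.NP4.Defs
import Cfsg.Agent.SQF.QL2
import Cfsg.Agent.Cit.PG
import Cfsg.Agent.C2Low.BenderSyl
import Cfsg.Agent.S0494

set_option autoImplicit false

namespace CL.NP4

open Cfsg Subgroup CL.Grp CL.Loc CL.Even CL.Sqf

universe u

namespace L2Ex

theorem not_two {L : Type*} [Group L] [Finite L] {b : ℕ} (hb : ¬ 2 ∣ b) (h1 : b ≠ 1) (h : b ∣ Nat.card L) :
    ¬ IsPGroup 2 L := fun hp => by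
  obtain ⟨k, hk⟩ := IsPGroup.iff_card.1 hp
  rw [hk] at h
  exact h1 (Nat.Coprime.eq_one_of_dvd (((Nat.prime_two.coprime_iff_not_dvd.2 hb).symm).pow_right k) h)

theorem gd5 : Gd (Matrix.ProjectiveSpecialLinearGroup (Fin 2) (ZMod 5)) :=
  haveI : Fact (Nat.Prime 5) := ⟨by norm_num⟩
  gd_of_good (ql2 (ZMod 5) (by rw [ZMod.card]; decide))

end L2Ex

theorem jL2E : JL2E := by
  intro hC F _ _ h3
  rcases Nat.even_or_odd (Fintype.card F) with he | ho
  swap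
  · exact gd_of_good (ql2 F ho)
  obtain ⟨p, hp⟩ := CharP.exists F
  obtain ⟨⟨n, hn⟩, hpp, hF⟩ := FiniteField.card F p
  change Fintype.card F = p ^ n at hF
  obtain rfl : 2 = p := (Nat.prime_dvd_prime_iff_eq Nat.prime_two hpp).1
    (Nat.prime_two.dvd_of_dvd_pow (hF ▸ even_iff_two_dvd.1 he))
  have hc := CL.Cit.card_L2_even hF
  have h2 : 2 ≤ n := by
    by_contra hlt
    obtain rfl : n = 1 := by omega
    omega
  rcases h2.eq_or_lt with rfl | h2
  · haveI : Fact (Nat.Prime 5) := ⟨by norm_num⟩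
    haveI := CL.SLn.isSimpleGroup_PSL_fin (F := F) 2 le_rfl fun _ => by omega
    haveI := CL.SLn.isSimpleGroup_PSL_fin (F := ZMod 5) 2 le_rfl fun _ => by rw [ZMod.card]; omega
    have h5 := CL.Cit.card_L2_odd (F := ZMod 5) (by rw [ZMod.card]; decide)
    rw [ZMod.card] at h5
    obtain ⟨e⟩ := Cfsg.Agent.S0494.result (G := Matrix.ProjectiveSpecialLinearGroup (Fin 2) F) (by omega)
    obtain ⟨e'⟩ := Cfsg.Agent.S0494.result (G := Matrix.ProjectiveSpecialLinearGroup (Fin 2) (ZMod 5)) (by omega)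
    exact L2Ex.gd5.congr (e'.trans e.symm)
  refine hC _ (CL.Cit.isCIT_L2_even hF) (L2Ex.not_two (CL.Cit.not_two_dvd_two_pow_sub_one (i := 2 * n) (by omega)) ?_
    (hc ▸ Dvd.intro_left _ rfl)) fun S => ⟨S, ?_, fun s => ⟨fun hs => ?_, fun hs => hs.1⟩⟩
  · have : 2 ^ 2 ≤ 2 ^ (2 * n) := Nat.pow_le_pow_right two_pos (by omega)
    omega
  · exact Nat.le_of_dvd Nat.card_pos (S.pow_dvd_card_of_pow_dvd_card (n := 3)
      (hc ▸ (pow_dvd_pow 2 h2).mul_right _))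
  · have sq := CL.C2Low.sq_of_psl hF (MulEquiv.refl _) S.2
    have iv : ∀ x ∈ (S : Subgroup _), x⁻¹ = x := fun x hx => inv_eq_of_mul_eq_one_right (sq x hx)
    refine ⟨hs, fun t ht => ?_, sq s hs⟩
    rw [← iv _ (mul_mem ht hs), mul_inv_rev, iv s hs, iv t ht]

theorem jSzg : JSZG := by
  intro hC F _ _ m hm hF
  let M := CL.Chev.Sz.modelLie hm hF
  haveI := M.finite
  have hq : Nat.card F = 2 ^ (2 * m + 1) := by rw [Nat.card_eq_fintype_card, hF]
  have h8 : 8 ≤ Nat.card F := hq ▸ Nat.pow_le_pow_right (n := 2) two_pos (by omega : 3 ≤ 2 * m + 1)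
  refine hC _ (CL.Cit.isCIT_of_model M) (L2Ex.not_two (b := Nat.card F - 1)
    (hq ▸ CL.Cit.not_two_dvd_two_pow_sub_one (by omega)) (by omega)
    (M.card_G ▸ (Dvd.intro_left _ rfl).mul_right _)) fun S => ?_
  obtain ⟨g, hg⟩ := M.exists_conj_U_eq S
  refine ⟨CL.C2Low.omegaZ S, ?_, fun s => Iff.rfl⟩
  rw [← hg, CL.C2Low.sz_omegaZ, CL.Chev.Sz.Model.card_Z]
  exact h8

end CL.NP4
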